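import Mathlib
import Groth.Prelude.Def_W4c1famcyclesFFR

/-!
# Characteristic polynomials for modules with finite free resolutions
-/

universe u

namespace Groth.Agent.FFRDetLib

open Polynomial TensorProduct

section local_

variable {L : Type u} [CommRing L] {K F M : Type u} [AddCommGroup K] [Module L K] [AddCommGroup F] [Module L F]
  [AddCommGroup M] [Module L M]

theorem charpoly_exact [Module.Free L K] [Module.Finite L K] [Module.Free L F] [Module.Finite L F]
    [Module.Free L M] [Module.Finite L M]
    (ι : K →ₗ[L] F) (g : F →ₗ[L] M) (hι : Function.Injective ι) (hg : Function.Surjective g)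
    (hex : Function.Exact ι g) (a : Module.End L K) (b : Module.End L F) (c : Module.End L M)
    (hab : b ∘ₗ ι = ι ∘ₗ a) (hbc : g ∘ₗ b = c ∘ₗ g) :
    b.charpoly = a.charpoly * c.charpoly ∧
      (Nontrivial L → Module.finrank L F = Module.finrank L K + Module.finrank L M) := by
  classical
  obtain ⟨s, hs⟩ := Module.projective_lifting_property g LinearMap.id hg
  have hgs : ∀ x, g (s x) = x := fun x => LinearMap.congr_fun hs x
  have hgι : ∀ x, g (ι x) = 0 := fun x => (hex (ι x)).2 ⟨x, rfl⟩
  let Φ : (K × M) ≃ₗ[L] F := LinearEquiv.ofBijective (ι.coprod s) ⟨by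
    refine (injective_iff_map_eq_zero _).2 fun ⟨x, y⟩ h => ?_
    rw [LinearMap.coprod_apply] at h
    have hy : y = 0 := by simpa [hgι, hgs] using congr_arg g h
    subst hy
    have hx : ι x = 0 := by simpa using h
    rw [hι (hx.trans (map_zero ι).symm)]
    rfl, fun f => by
    obtain ⟨x, hx⟩ := (hex (f - s (g f))).1 (by rw [map_sub, hgs, sub_self])
    exact ⟨(x, g f), by rw [LinearMap.coprod_apply, hx, sub_add_cancel]⟩⟩
  have hΦ : ∀ x y, Φ (x, y) = ι x + s y := fun x y => LinearMap.coprod_apply ι s (x, y)
  have hΦ2 : ∀ f, (Φ.symm f).2 = g f := fun f => by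
    conv_rhs => rw [← Φ.apply_symm_apply f, show Φ.symm f = ((Φ.symm f).1, (Φ.symm f).2) from rfl, hΦ,
      map_add, hgι, zero_add, hgs]
  refine ⟨?_, fun _ => by rw [← Φ.finrank_eq, Module.finrank_prod]⟩
  let B1 := Module.Free.chooseBasis L K
  let B2 := Module.Free.chooseBasis L M
  let T : Module.End L (K × M) := Φ.symm.conj b
  have hT : ∀ v, T v = Φ.symm (b (Φ v)) := fun v => by simp [T, LinearEquiv.conj_apply]
  have h11 : ∀ x, T (x, 0) = (a x, 0) := fun x => by
    rw [hT, LinearEquiv.symm_apply_eq, hΦ, hΦ, map_zero, add_zero, add_zero]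
    exact LinearMap.congr_fun hab x
  have h22 : ∀ y, (T (0, y)).2 = c y := fun y => by
    rw [hT, hΦ, map_zero, zero_add, hΦ2, ← LinearMap.comp_apply, hbc, LinearMap.comp_apply, hgs]
  rw [← LinearEquiv.charpoly_conj Φ.symm b, ← LinearMap.charpoly_toMatrix T (B1.prod B2),
    ← LinearMap.charpoly_toMatrix a B1, ← LinearMap.charpoly_toMatrix c B2]
  set N := LinearMap.toMatrix (B1.prod B2) (B1.prod B2) T with hN
  have e : N = Matrix.fromBlocks (LinearMap.toMatrix B1 B1 a) N.toBlocks₁₂ 0 (LinearMap.toMatrix B2 B2 c) := by
    conv_lhs => rw [← Matrix.fromBlocks_toBlocks N]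
    rw [Matrix.fromBlocks_inj]
    refine ⟨?_, rfl, ?_, ?_⟩ <;> ext i j <;>
      simp [hN, Matrix.toBlocks₁₁, Matrix.toBlocks₂₁, Matrix.toBlocks₂₂, LinearMap.toMatrix_apply, h11, h22]
  rw [e, Matrix.charpoly_fromBlocks_zero₂₁]

theorem projective_of_exact [Module.Projective L F] [Module.Projective L M]
    (ι : K →ₗ[L] F) (g : F →ₗ[L] M) (hι : Function.Injective ι) (hg : Function.Surjective g)
    (hex : Function.Exact ι g) : Module.Projective L K := by
  obtain ⟨s, hs⟩ := Module.projective_lifting_property g LinearMap.id hg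
  have hgs : ∀ x, g (s x) = x := fun x => LinearMap.congr_fun hs x
  have hr : ∀ f, ((LinearMap.id : F →ₗ[L] F) - s ∘ₗ g) f ∈ LinearMap.range ι := fun f =>
    (hex _).1 (by simp [hgs])
  let π : F →ₗ[L] K := (LinearEquiv.ofInjective ι hι).symm.toLinearMap ∘ₗ ((LinearMap.id : F →ₗ[L] F) - s ∘ₗ g).codRestrict _ hr
  refine Module.Projective.of_split ι π (LinearMap.ext fun x => ?_)
  apply (LinearEquiv.ofInjective ι hι).injective
  have hx : g (ι x) = 0 := (hex _).2 ⟨x, rfl⟩
  apply Subtype.ext
  simp [π, hx]

theorem free_of_annihilated [IsLocalRing L] [Module.Free L K] [Module.Finite L K] [Module.Free L F] [Module.Finite L F]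
    (x : L) (hx : x ≠ 0) (hm : ∀ y ∈ IsLocalRing.maximalIdeal L, x * y = 0)
    (ι : K →ₗ[L] F) (g : F →ₗ[L] M) (hι : Function.Injective ι) (hg : Function.Surjective g)
    (hex : Function.Exact ι g) : Module.Free L M := by
  refine Module.free_of_lTensor_residueField_injective ι g hg hex ?_
  refine (injective_iff_map_eq_zero _).2 fun t ht => ?_
  obtain ⟨v, rfl⟩ := TensorProduct.mk_surjective L K (IsLocalRing.ResidueField L) Ideal.Quotient.mk_surjective t
  rw [TensorProduct.mk_apply, LinearMap.lTensor_tmul] at ht
  let BK := Module.Free.chooseBasis L K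
  let BF := Module.Free.chooseBasis L F
  have h1 : ∀ i, x * BF.repr (ι v) i = 0 := fun i => hm _ (by
    have := congr_arg (fun t => (BF.baseChange (IsLocalRing.ResidueField L)).repr t i) ht
    simpa [Module.Basis.baseChange_repr_tmul, Algebra.smul_def, IsLocalRing.residue_eq_zero_iff,
      IsLocalRing.ResidueField.algebraMap_eq] using this)
  have h2 : x • v = 0 := hι (by
    rw [map_zero, map_smul]
    refine BF.repr.injective (Finsupp.ext fun i => ?_)
    rw [map_smul, Finsupp.smul_apply, smul_eq_mul, h1, map_zero, Finsupp.zero_apply])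
  have h3 : ∀ i, BK.repr v i ∈ IsLocalRing.maximalIdeal L := fun i => by
    have := congr_arg (fun t => BK.repr t i) h2
    simp only [map_smul, Finsupp.smul_apply, smul_eq_mul, map_zero, Finsupp.zero_apply] at this
    intro hu
    exact hx (hu.mul_left_eq_zero.1 this)
  refine (BK.baseChange (IsLocalRing.ResidueField L)).repr.injective (Finsupp.ext fun i => ?_)
  rw [map_zero, Finsupp.zero_apply, TensorProduct.mk_apply, Module.Basis.baseChange_repr_tmul, Algebra.smul_def,
    IsLocalRing.ResidueField.algebraMap_eq, mul_one, IsLocalRing.residue_eq_zero_iff]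
  exact h3 i

end local_

variable (A : Type u) [CommRing A]

/-- An element vanishing at all associated primes vanishes. -/
theorem eq_zero_of_forall_ass [IsNoetherianRing A] (a : A)
    (h : ∀ (p : Ideal A) [p.IsPrime], IsAssociatedPrime p A → algebraMap A (Localization.AtPrime p) a = 0) :
    a = 0 := by
  by_contra ha
  obtain ⟨P, hP, hle⟩ := exists_le_isAssociatedPrime_of_isNoetherianRing A a ha
  haveI := hP.isPrime
  obtain ⟨⟨s, hs⟩, hsa⟩ := (IsLocalization.map_eq_zero_iff P.primeCompl (Localization.AtPrime P) a).1 (h P hP)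
  exact hs (hle (Submodule.mem_colon_singleton.2 (by simpa using hsa)))

/-- A characteristic polynomial of an endomorphism. -/
def IsCP {M : Type u} [AddCommGroup M] [Module A M] [Module.Finite A M] (φ : M →ₗ[A] M) (r : ℕ) (c : A[X]) : Prop :=
  c.Monic ∧ (Nontrivial A → c.natDegree = r) ∧
    (∀ (p : Ideal A) [p.IsPrime], IsAssociatedPrime p A →
      Module.Free (Localization.AtPrime p) (LocalizedModule p.primeCompl M)) ∧
    ∀ (p : Ideal A) [p.IsPrime] [Module.Free (Localization.AtPrime p) (LocalizedModule p.primeCompl M)],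
      Module.finrank (Localization.AtPrime p) (LocalizedModule p.primeCompl M) = r ∧
        (LocalizedModule.map p.primeCompl φ).charpoly = c.map (algebraMap A (Localization.AtPrime p))

variable {A}

theorem finite_of_ffr : ∀ (n : ℕ) {M : Type u} [AddCommGroup M] [Module A M],
    FamCyc.HasFiniteFreeResolutionLE A n M → Module.Finite A M
  | 0, _, _, _, h => h.2
  | _ + 1, _, _, _, ⟨_, f, hf, _⟩ => Module.Finite.of_surjective f hf

theorem free_loc {M : Type u} [AddCommGroup M] [Module A M] [Module.Free A M] [Module.Finite A M]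
    (p : Ideal A) [p.IsPrime] : Module.Free (Localization.AtPrime p) (LocalizedModule p.primeCompl M) :=
  Module.Free.of_basis ((Module.Free.chooseBasis A M).ofIsLocalizedModule (Localization.AtPrime p) p.primeCompl
    (LocalizedModule.mkLinearMap p.primeCompl M))

theorem map_free_charpoly {M : Type u} [AddCommGroup M] [Module A M] [Module.Free A M] [Module.Finite A M]
    (φ : M →ₗ[A] M) (p : Ideal A) [p.IsPrime] :
    haveI := free_loc (M := M) p
    Module.finrank (Localization.AtPrime p) (LocalizedModule p.primeCompl M) = Module.finrank A M ∧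
    (LocalizedModule.map p.primeCompl φ).charpoly = φ.charpoly.map (algebraMap A (Localization.AtPrime p)) := by
  classical
  haveI : Nontrivial A := ⟨0, 1, fun h => ‹p.IsPrime›.ne_top ((Ideal.eq_top_iff_one p).2 (h ▸ p.zero_mem))⟩
  let b := Module.Free.chooseBasis A M
  let bp := b.ofIsLocalizedModule (Localization.AtPrime p) p.primeCompl (LocalizedModule.mkLinearMap p.primeCompl M)
  haveI := free_loc (M := M) p
  refine ⟨by rw [Module.finrank_eq_card_basis bp, Module.finrank_eq_card_basis b], ?_⟩
  rw [← LinearMap.charpoly_toMatrix _ bp, ← LinearMap.charpoly_toMatrix φ b, ← Matrix.charpoly_map]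
  congr 1
  ext i j
  rw [Matrix.map_apply, LinearMap.toMatrix_apply, LinearMap.toMatrix_apply, Module.Basis.ofIsLocalizedModule_apply,
    LocalizedModule.mkLinearMap_apply, LocalizedModule.map_mk, ← LocalizedModule.mkLinearMap_apply]
  exact b.ofIsLocalizedModule_repr_apply _ _ _ _ _

theorem exists_isCP [IsNoetherianRing A] : ∀ (n : ℕ) {M : Type u} [AddCommGroup M] [Module A M],
    [Module.Finite A M] → FamCyc.HasFiniteFreeResolutionLE A n M → ∀ φ : M →ₗ[A] M, ∃ (r : ℕ) (c : A[X]), IsCP A φ r c := by
  intro n
  induction n with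
  | zero =>
    intro M _ _ _ h φ
    haveI := h.1
    haveI := h.2
    exact ⟨Module.finrank A M, φ.charpoly, φ.charpoly_monic, fun _ => LinearMap.charpoly_natDegree φ,
      fun p _ _ => free_loc p, fun p _ _ => map_free_charpoly φ p⟩
  | succ n ih =>
    intro M _ _ _ h φ
    obtain ⟨N, g, hg, hK⟩ := h
    haveI : Module.Finite A (LinearMap.ker g) := finite_of_ffr n hK
    obtain ⟨b, hb⟩ := Module.projective_lifting_property g (φ ∘ₗ g) hg
    have hbK : ∀ x ∈ LinearMap.ker g, b x ∈ LinearMap.ker g := fun x hx => by
      rw [LinearMap.mem_ker] at hx ⊢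
      rw [← LinearMap.comp_apply, hb, LinearMap.comp_apply, hx, map_zero]
    set a : LinearMap.ker g →ₗ[A] LinearMap.ker g := b.restrict hbK with ha
    obtain ⟨rK, cK, hcK, hdK, hfreeK, hpK⟩ := ih hK a
    refine ⟨N - rK, b.charpoly /ₘ cK, ?_⟩
    -- local statements
    have loc : ∀ (p : Ideal A) [p.IsPrime],
        Function.Injective (LocalizedModule.map p.primeCompl (LinearMap.ker g).subtype) ∧
        Function.Surjective (LocalizedModule.map p.primeCompl g) ∧
        Function.Exact (LocalizedModule.map p.primeCompl (LinearMap.ker g).subtype) (LocalizedModule.map p.primeCompl g) := by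
      intro p _
      exact ⟨LocalizedModule.map_injective _ _ Subtype.val_injective,
        IsLocalizedModule.map_surjective p.primeCompl _ _ g hg,
        LocalizedModule.map_exact p.primeCompl (LinearMap.ker g).subtype g g.exact_subtype_ker_map⟩
    have hpF := fun (p : Ideal A) [p.IsPrime] => map_free_charpoly b p
    have key : ∀ (p : Ideal A) [p.IsPrime]
        [Module.Free (Localization.AtPrime p) (LocalizedModule p.primeCompl M)],
        Module.finrank (Localization.AtPrime p) (LocalizedModule p.primeCompl M) + rK = N ∧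
        b.charpoly.map (algebraMap A (Localization.AtPrime p)) =
          cK.map (algebraMap A (Localization.AtPrime p)) * (LocalizedModule.map p.primeCompl φ).charpoly := by
      intro p _ hfree
      haveI : Nontrivial A := ⟨0, 1, fun h => ‹p.IsPrime›.ne_top ((Ideal.eq_top_iff_one p).2 (h ▸ p.zero_mem))⟩
      obtain ⟨hi, hs, he⟩ := loc p
      haveI hFfree := free_loc (M := Fin N → A) p
      obtain ⟨hFrank, hFpoly⟩ := hpF p
      haveI : Module.Projective (Localization.AtPrime p) (LocalizedModule p.primeCompl (LinearMap.ker g)) :=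
        projective_of_exact (K := LocalizedModule p.primeCompl (LinearMap.ker g))
          (F := LocalizedModule p.primeCompl (Fin N → A)) (M := LocalizedModule p.primeCompl M) _ _ hi hs he
      haveI : Module.Free (Localization.AtPrime p) (LocalizedModule p.primeCompl (LinearMap.ker g)) :=
        Module.free_of_flat_of_isLocalRing (R := Localization.AtPrime p) (P := LocalizedModule p.primeCompl (LinearMap.ker g))
      obtain ⟨hKrank, hKpoly⟩ := hpK p
      obtain ⟨h1, h2⟩ := charpoly_exact (K := LocalizedModule p.primeCompl (LinearMap.ker g))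
        (F := LocalizedModule p.primeCompl (Fin N → A)) (M := LocalizedModule p.primeCompl M) (LocalizedModule.map p.primeCompl (LinearMap.ker g).subtype)
        (LocalizedModule.map p.primeCompl g) hi hs he (LocalizedModule.map p.primeCompl a)
        (LocalizedModule.map p.primeCompl b) (LocalizedModule.map p.primeCompl φ)
        (LinearMap.ext fun x => by
          induction x using LocalizedModule.induction_on with
          | _ m s => simp [LocalizedModule.map_mk, ha])
        (LinearMap.ext fun x => by
          induction x using LocalizedModule.induction_on with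
          | _ m s => simp only [LinearMap.comp_apply, LocalizedModule.map_mk]; rw [← LinearMap.comp_apply, hb]; rfl)
      refine ⟨?_, by rw [← hFpoly, h1, hKpoly]⟩
      have : Module.finrank (Localization.AtPrime p) (LocalizedModule p.primeCompl (Fin N → A)) =
          Module.finrank (Localization.AtPrime p) (LocalizedModule p.primeCompl (LinearMap.ker g)) +
          Module.finrank (Localization.AtPrime p) (LocalizedModule p.primeCompl M) := h2 inferInstance
      rw [hFrank, hKrank, Module.finrank_fin_fun] at this
      change Module.finrank (Localization.AtPrime p) (LocalizedModule p.primeCompl M) + rK = N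
      omega
    have hass : ∀ (p : Ideal A) [p.IsPrime], IsAssociatedPrime p A →
        Module.Free (Localization.AtPrime p) (LocalizedModule p.primeCompl M) := by
      intro p _ hp
      obtain ⟨hi, hs, he⟩ := loc p
      haveI := free_loc (M := Fin N → A) p
      haveI := hfreeK p hp
      obtain ⟨-, x, hx⟩ := isAssociatedPrime_iff.1 hp
      have hmem : ∀ y, y ∈ p ↔ y * x = 0 := fun y => by rw [hx, Submodule.mem_colon_singleton]; simp
      refine free_of_annihilated (K := LocalizedModule p.primeCompl (LinearMap.ker g))
        (F := LocalizedModule p.primeCompl (Fin N → A)) (M := LocalizedModule p.primeCompl M)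
        (algebraMap A (Localization.AtPrime p) x) ?_ ?_ _ _ hi hs he
      · rw [Ne, IsLocalization.map_eq_zero_iff p.primeCompl (Localization.AtPrime p) x]
        rintro ⟨⟨s, hs⟩, h⟩
        exact hs ((hmem s).2 h)
      · rw [← Localization.AtPrime.map_eq_maximalIdeal]
        intro y hy
        obtain ⟨⟨⟨m, hm⟩, t⟩, hmt⟩ := (IsLocalization.mem_map_algebraMap_iff p.primeCompl _).1 hy
        refine (IsLocalization.map_units (Localization.AtPrime p) t).mul_left_eq_zero.1 ?_
        rw [mul_assoc, hmt, ← map_mul, mul_comm x, (hmem m).1 hm, map_zero]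
    have hrem : b.charpoly %ₘ cK = 0 := by
      ext i
      rw [coeff_zero]
      refine eq_zero_of_forall_ass A _ fun p _ hp => ?_
      rw [← coeff_map, map_modByMonic _ hcK, (haveI := hass p hp; (key p).2),
        (modByMonic_eq_zero_iff_dvd (hcK.map _)).2 (dvd_mul_right _ _), coeff_zero]
    have hdiv : cK * (b.charpoly /ₘ cK) = b.charpoly := by
      have := modByMonic_add_div b.charpoly cK
      rwa [hrem, zero_add] at this
    refine ⟨hcK.of_mul_monic_left (by rw [hdiv]; exact b.charpoly_monic), fun hA => ?_, hass, fun p _ _ => ?_⟩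
    · haveI := hA
      rw [natDegree_divByMonic _ hcK, LinearMap.charpoly_natDegree, Module.finrank_fin_fun, hdK hA]
    · obtain ⟨k1, k2⟩ := key p
      refine ⟨by omega, ?_⟩
      rw [← hdiv, Polynomial.map_mul] at k2
      exact ((hcK.map _).isRegular.left k2).symm

end Groth.Agent.FFRDetLib
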